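import Groth.Agent.FlatDim.Comps
import Groth.Agent.LocalDimBC.Scheme

/-!
# Components of preimages under base changes of equidimensional flat morphisms
-/

universe u

set_option autoImplicit false
set_option linter.style.haveILetI false
set_option backward.isDefEq.respectTransparency false

open CategoryTheory CategoryTheory.Limits AlgebraicGeometry Topology TopologicalSpace

namespace Groth.Agent.FlatDim

open Unibranch

variable {X Y : Scheme.{u}}

/-- At a maximal point of the fibre, the local dimension of the fibre is that of the closure. -/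
theorem fibreDimAt_eq (f : X ⟶ Y) [LocallyOfFiniteType f] {x : X} (hx : IsFibMax f x) {δ : ℕ}
    (h1 : ChainsLE f (closure {x}) (f x) δ) (h2 : HasChain f (closure {x}) (f x) δ) :
    FlatMor.fibreDimAt f x = (δ : WithBot ℕ∞) := by
  refine le_antisymm ((fibreDimAt_le_iff f x).2 ?_) ((natCast_le_fibreDimAt_iff f x).2 fun U hU => ?_)
  · obtain ⟨U, hxU, hU⟩ := ValFibre.exists_open_fibre f x hx
    exact ⟨U, hxU, fun j c hc hcc => h1 j c
      (fun i => ⟨specializes_iff_mem_closure.1 (hU _ (hc i).1 (hc i).2), (hc i).2⟩) hcc⟩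
  · obtain ⟨V, W, hV, hW, hxW, hWV, hWU⟩ := exists_chart_le f hU
    exact ((hasChain_rdimIn hV hW hWV hxW).mono fun w hw => hWU hw.1).anti
      (h2.le (chainsLE_of_specializes f specializes_rfl hxW (chainsLE_rdimIn hV hW hWV hxW)))

/-- The projection of a maximal point of a fibre of a base change is maximal in its fibre. -/
theorem isFibMax_of_isPullback {X' Y' : Scheme.{u}} {f : X ⟶ Y} {f' : X' ⟶ Y'} {g' : X' ⟶ X} {g : Y' ⟶ Y}
    (h : IsPullback g' f' f g) {w : X'} (hw : IsFibMax f' w) : IsFibMax f (g' w) := by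
  intro y hy hfy
  have hsq := isPullback_fiberToSpecResidueField_of_isPullback h (f' w)
  set q := pullback.map f' (Y'.fromSpecResidueField (f' w)) f (Y.fromSpecResidueField (g (f' w))) g'
    (Spec.map (g.residueFieldMap (f' w))) g h.w.symm (by simp) with hqdef
  letI := (g.residueFieldMap (f' w)).hom.toAlgebra
  haveI : Flat (Spec.map (g.residueFieldMap (f' w))) := by
    rw [HasRingHomProperty.Spec_iff (P := @Flat)]
    exact RingHom.flat_algebraMap_iff.mpr inferInstance
  haveI : Flat q := MorphismProperty.of_isPullback hsq.flip inferInstance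
  have hcomm : ∀ u, f.fiberι (g (f' w)) (q u) = g' (f'.fiberι (f' w) u) := fun u => by
    have h' : q ≫ f.fiberι (g (f' w)) = f'.fiberι (f' w) ≫ g' := pullback.lift_fst _ _ _
    exact congrArg (fun k : _ ⟶ X => k u) h'
  have hfg : f (g' w) = g (f' w) := congrArg (fun k : _ ⟶ Y => k w) h.w
  obtain ⟨v₀, rfl⟩ : y ∈ Set.range (f.fiberι (g (f' w))) := by
    rw [f.range_fiberι]
    exact hfy.trans hfg
  have hw0 : f.fiberι (g (f' w)) (q (f'.asFiber w)) = g' w :=
    (hcomm _).trans (congrArg g' (f'.fiberι_asFiber w))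
  have hsp : v₀ ⤳ q (f'.asFiber w) :=
    (f.fiberι (g (f' w))).isEmbedding.isInducing.specializes_iff.1 (hy.trans (specializes_of_eq hw0.symm))
  obtain ⟨u, hu, hqu⟩ := Flat.generalizingMap q hsp
  have h1 : u = f'.asFiber w := (f'.fiberι (f' w)).isEmbedding.injective
    ((hw _ ((hu.map (f'.fiberι (f' w)).continuous).trans (specializes_of_eq (f'.fiberι_asFiber w)))
      ((f'.range_fiberι (f' w)).le ⟨u, rfl⟩)).trans (f'.fiberι_asFiber w).symm)
  rw [← hqu, h1, hw0]

end Groth.Agent.FlatDim
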