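import Groth.Agent.FlatDim.Points

/-!
# Components of fibres and of the source, by maximal points
-/

universe u

set_option autoImplicit false
set_option linter.style.haveILetI false
set_option backward.isDefEq.respectTransparency false

open CategoryTheory AlgebraicGeometry Topology TopologicalSpace

namespace Groth.Agent.FlatDim

open Unibranch

variable {k : Type u} [Field k] {X Y : Scheme.{u}}

theorem forall_components_iff (q : X ⟶ Spec (CommRingCat.of k)) [LocallyOfFiniteType q] (D : ℕ) :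
    (∀ Z ∈ irreducibleComponents (X : Type u), topologicalKrullDim Z = (D : WithBot ℕ∞)) ↔
      ∀ ξ : X, IsMaxPt ξ → WeilCoh.pdim X ξ = D := by
  refine ⟨fun h ξ hξ => ?_, fun h Z hZ => ?_⟩
  · have h1 := h _ hξ.mem_irreducibleComponents
    rw [(pdim_spec q ξ).2.2, Nat.cast_inj] at h1
    exact h1
  · obtain ⟨ξ, hξ, rfl⟩ := exists_isMaxPt hZ
    rw [(pdim_spec q ξ).2.2, h ξ hξ]

theorem isFibMax_iff (f : X ⟶ Y) (y : Y) (v : ↥(f.fiber y)) : IsMaxPt v ↔ IsFibMax f (f.fiberι y v) := by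
  have hfib : ∀ w, f (f.fiberι y w) = y := fun w => (f.range_fiberι y).le ⟨w, rfl⟩
  refine ⟨fun h w hw hfw => ?_, fun h w hw => ?_⟩
  · obtain ⟨w', rfl⟩ : w ∈ Set.range (f.fiberι y) := by
      rw [f.range_fiberι]
      exact hfw.trans (hfib v)
    rw [h w' ((f.fiberι y).isEmbedding.isInducing.specializes_iff.1 hw)]
  · exact (f.fiberι y).isEmbedding.injective
      (h _ (hw.map (f.fiberι y).continuous) ((hfib w).trans (hfib v).symm))

theorem fibre_closure_dim (f : X ⟶ Y) (y : Y) (v : ↥(f.fiber y)) {n : ℕ}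
    (h1 : ChainsLE f (closure {f.fiberι y v}) y n) (h2 : HasChain f (closure {f.fiberι y v}) y n) :
    topologicalKrullDim ↥(closure ({v} : Set ↥(f.fiber y))) = (n : WithBot ℕ∞) := by
  let j : ↥(closure ({v} : Set ↥(f.fiber y))) → X := fun w => f.fiberι y w.1
  have hj : IsEmbedding j := (f.fiberι y).isEmbedding.comp IsEmbedding.subtypeVal
  haveI : QuasiSober ↥(closure ({v} : Set ↥(f.fiber y))) := isClosed_closure.isClosedEmbedding_subtypeVal.quasiSober
  have hr : Set.range j = closure {f.fiberι y v} ∩ f ⁻¹' {y} := by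
    ext x
    constructor
    · rintro ⟨⟨w, hw⟩, rfl⟩
      exact ⟨specializes_iff_mem_closure.1 ((specializes_iff_mem_closure.2 hw).map (f.fiberι y).continuous),
        (f.range_fiberι y).le ⟨w, rfl⟩⟩
    · rintro ⟨hx, hxy⟩
      obtain ⟨w, rfl⟩ : x ∈ Set.range (f.fiberι y) := by rw [f.range_fiberι]; exact hxy
      exact ⟨⟨w, specializes_iff_mem_closure.1
        ((f.fiberι y).isEmbedding.isInducing.specializes_iff.1 (specializes_iff_mem_closure.2 hx))⟩, rfl⟩
  exact le_antisymm ((topologicalKrullDim_le_iff f hj hr).2 h1) ((natCast_le_topologicalKrullDim_iff f hj hr).2 h2)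

theorem forall_fibre_components_iff (f : X ⟶ Y) [LocallyOfFiniteType f] (n : ℕ) :
    (∀ (y : Y), ∀ Z ∈ irreducibleComponents (f.fiber y : Type u), topologicalKrullDim Z = (n : WithBot ℕ∞)) ↔
      ∀ z : X, IsFibMax f z → ChainsLE f (closure {z}) (f z) n ∧ HasChain f (closure {z}) (f z) n := by
  refine ⟨fun h z hz => ?_, fun h y Z hZ => ?_⟩
  · have hι : f.fiberι (f z) (f.asFiber z) = z := f.fiberι_asFiber z
    have hm : IsMaxPt (f.asFiber z) := (isFibMax_iff f _ _).2 (by rw [hι]; exact hz)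
    obtain ⟨e, h1, h2, -⟩ := exists_dim_closure_eq f z
    have h3 := fibre_closure_dim f (f z) (f.asFiber z) (n := e) (by rw [hι]; exact h1) (by rw [hι]; exact h2)
    rw [h (f z) _ hm.mem_irreducibleComponents, Nat.cast_inj] at h3
    exact h3 ▸ ⟨h1, h2⟩
  · obtain ⟨v, hv, rfl⟩ := exists_isMaxPt hZ
    have hfv : f (f.fiberι y v) = y := (f.range_fiberι y).le ⟨v, rfl⟩
    obtain ⟨h1, h2⟩ := h _ ((isFibMax_iff f y v).1 hv)
    rw [hfv] at h1 h2
    exact fibre_closure_dim f y v h1 h2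

/-- An irreducible scheme: one maximal point, computing the dimension. -/
theorem exists_pdim_irreducible (q : Y ⟶ Spec (CommRingCat.of k)) [LocallyOfFiniteType q] [IrreducibleSpace ↥Y] :
    ∃ d : ℕ, topologicalKrullDim ↥Y = (d : WithBot ℕ∞) ∧ ∀ η : Y, IsMaxPt η → WeilCoh.pdim Y η = d := by
  refine ⟨WeilCoh.pdim Y (genericPoint ↥Y), ?_, fun η hη => by rw [← hη _ (genericPoint_specializes η)]⟩
  rw [← (pdim_spec q (genericPoint ↥Y)).2.2]
  refine (IsHomeomorph.topologicalKrullDim_eq _ ((Homeomorph.setCongr ?_).trans (Homeomorph.Set.univ _)).isHomeomorph).symm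
  exact Set.eq_univ_iff_forall.2 fun y => specializes_iff_mem_closure.1 (genericPoint_specializes y)

theorem equidim_iff (qX : X ⟶ Spec (CommRingCat.of k)) (qY : Y ⟶ Spec (CommRingCat.of k)) [LocallyOfFiniteType qX]
    [LocallyOfFiniteType qY] (f : X ⟶ Y) (hf : f ≫ qY = qX) [Flat f] {d : ℕ} (n : ℕ)
    (hY : ∀ η : Y, IsMaxPt η → WeilCoh.pdim Y η = d) :
    (∀ Z ∈ irreducibleComponents (X : Type u), topologicalKrullDim Z = ((d + n : ℕ) : WithBot ℕ∞)) ↔
      ∀ (y : Y), ∀ Z ∈ irreducibleComponents (f.fiber y : Type u), topologicalKrullDim Z = (n : WithBot ℕ∞) := by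
  haveI : LocallyOfFiniteType (f ≫ qY) := hf ▸ inferInstance
  haveI : LocallyOfFiniteType f := locallyOfFiniteType_of_comp f qY
  rw [forall_components_iff qX, forall_fibre_components_iff f]
  refine ⟨fun h z hz => ?_, fun h ξ hξ => pdim_eq_of_fibres f qY hY h hξ⟩
  obtain ⟨-, h2⟩ := chains_of_equidim f qY h hY hz
  rwa [Nat.add_sub_cancel_left] at h2

end Groth.Agent.FlatDim
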