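import Groth.Agent.FlatDim.DimSets

/-!
# Dimension of the source and of the target, by fibres
-/

universe u

set_option autoImplicit false
set_option linter.style.haveILetI false
set_option backward.isDefEq.respectTransparency false

open CategoryTheory AlgebraicGeometry Topology TopologicalSpace

namespace Groth.Agent.FlatDim

open Unibranch

theorem add_le_of_forall {r : ℕ} {a b : WithBot ℕ∞}
    (h : ∀ d : ℕ, (d : WithBot ℕ∞) ≤ a → ((r + d : ℕ) : WithBot ℕ∞) ≤ b) : (r : WithBot ℕ∞) + a ≤ b := by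
  cases a with
  | bot => simp
  | coe a =>
    cases a with
    | top =>
      refine le_of_forall_natCast_le fun n _ => le_trans ?_ (h n le_top)
      exact_mod_cast Nat.le_add_left n r
    | coe a => exact le_trans (le_of_eq (by push_cast; rfl)) (h a le_rfl)

variable {k : Type u} [Field k] {X Y : Scheme.{u}}

theorem pdim_mono (q : X ⟶ Spec (CommRingCat.of k)) [LocallyOfFiniteType q] {ζ z : X} (h : ζ ⤳ z) :
    WeilCoh.pdim X z ≤ WeilCoh.pdim X ζ := by
  have h2 := ((pdim_spec q z).2.1.mono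
    (closure_minimal (Set.singleton_subset_iff.2 h.mem_closure) isClosed_closure))
  rw [Subsingleton.elim (q z) (q ζ)] at h2
  exact h2.le (pdim_spec q ζ).1

/-- Big fibres over the maximal points make the source big. -/
theorem add_dim_le (q : Y ⟶ Spec (CommRingCat.of k)) [LocallyOfFiniteType q] (f : X ⟶ Y) [LocallyOfFiniteType f]
    (r : ℕ) (hfib : ∀ η : Y, IsMaxPt η → (r : WithBot ℕ∞) ≤ topologicalKrullDim ↥(f.fiber η)) :
    (r : WithBot ℕ∞) + topologicalKrullDim ↥Y ≤ topologicalKrullDim ↥X := by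
  refine add_le_of_forall fun d hd => ?_
  obtain ⟨y, hy⟩ := (natCast_le_dim_univ_iff q).1 hd
  obtain ⟨η, hη, hηy⟩ := exists_isMaxPt_specializes y
  obtain ⟨x, hx, hch⟩ := (natCast_le_fibre_iff f η).1 (hfib η hη)
  obtain ⟨δ, hδ1, -, hδ⟩ := exists_pdim_eq f q x
  refine (natCast_le_dim_univ_iff (f ≫ q)).2 ⟨x, ?_⟩
  rw [hδ, hx]
  rw [hx] at hδ1
  have h1 := hch.le hδ1
  have h2 := hy.trans (pdim_mono q hηy)
  omega

/-- Small fibres make the source small. -/
theorem dim_le_add (q : Y ⟶ Spec (CommRingCat.of k)) [LocallyOfFiniteType q] (f : X ⟶ Y) [LocallyOfFiniteType f]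
    (r : ℕ) (hfib : ∀ x : X, topologicalKrullDim ↥(f.fiber (f x)) ≤ (r : WithBot ℕ∞)) :
    topologicalKrullDim ↥X ≤ (r : WithBot ℕ∞) + topologicalKrullDim ↥Y := by
  refine le_of_forall_natCast_le fun n hn => ?_
  obtain ⟨x, hx⟩ := (natCast_le_dim_univ_iff (f ≫ q)).1 hn
  obtain ⟨δ, -, hδ2, hδ⟩ := exists_pdim_eq f q x
  have hδr : δ ≤ r := natCast_le_iff_of_le_iff.1 (hfib x) δ ((natCast_le_fibre_iff f (f x)).2 ⟨x, rfl, hδ2⟩)
  refine le_trans ?_ (add_le_add le_rfl ((natCast_le_dim_univ_iff q).2 ⟨f x, le_rfl⟩))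
  have : n ≤ r + WeilCoh.pdim Y (f x) := by omega
  exact_mod_cast this

/-- Maximal points in the closure of the range of a quasi-compact morphism lie in the range. -/
theorem mem_range_of_isMaxPt (f : X ⟶ Y) [QuasiCompact f] {η : Y} (hη : IsMaxPt η)
    (h : η ∈ closure (Set.range f)) : η ∈ Set.range f := by
  obtain ⟨x, -, hx⟩ := SubDescent.exists_specializes_of_mem_closure_image f isClosed_univ (Set.image_univ (f := f) ▸ h)
  exact ⟨x, hη _ hx⟩

/-- `pdim` strictly drops along proper specialisations. -/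
theorem pdim_strict (q : X ⟶ Spec (CommRingCat.of k)) [LocallyOfFiniteType q] {ζ z : X} (h : ζ ⤳ z) (hne : z ≠ ζ) :
    WeilCoh.pdim X z < WeilCoh.pdim X ζ := by
  obtain ⟨c, hc, hcc⟩ := (pdim_spec q z).2.1
  have h0 : z ⤳ c 0 := specializes_iff_mem_closure.2 (hc 0).1
  have hne0 : ζ ≠ c 0 := fun he => hne ((h0.trans (specializes_of_eq he.symm)).antisymm h).eq
  refine HasChain.le (f := q) (S := closure {ζ}) (y := q ζ) ⟨Fin.cons ζ c, fun i => ?_, fun i => ?_⟩ (pdim_spec q ζ).1
  · cases i using Fin.cases with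
    | zero => simp [subset_closure (Set.mem_singleton ζ)]
    | succ i =>
      simp only [Fin.cons_succ]
      exact ⟨specializes_iff_mem_closure.1 (h.trans (specializes_iff_mem_closure.2 (hc i).1)), Subsingleton.elim _ _⟩
  · cases i using Fin.cases with
    | zero => simpa using ⟨h.trans h0, hne0⟩
    | succ i => simpa [← Fin.succ_castSucc] using hcc i

end Groth.Agent.FlatDim
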