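import Groth.Agent.FlatDim.DimUC
import Groth.Agent.Catenary.FibreGen
import Groth.Agent.SpRelDim.Trdeg

/-!
# Dimension of the source, by transcendence degrees over the maximal points
-/

universe u

set_option autoImplicit false
set_option linter.style.haveILetI false
set_option backward.isDefEq.respectTransparency false

open CategoryTheory AlgebraicGeometry Topology TopologicalSpace

namespace Groth.Agent.FlatDim

open Unibranch DimFormula

variable {X Y : Scheme.{u}} [IsLocallyNoetherian Y] (f : X ⟶ Y) [LocallyOfFiniteType f]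

/-- The residual transcendence degree is the dimension of the closure in the fibre. -/
theorem chains_resTrdeg (x : X) {n : ℕ} (hn : Dual3.resTrdeg f x = (n : Cardinal.{u})) :
    ChainsLE f (closure {x}) (f x) n ∧ HasChain f (closure {x}) (f x) n := by
  obtain ⟨b, δ, hb, hD, h1, h2, -⟩ := exists_fibre_dims f x
  obtain ⟨b', δ', hb', hδ', hD'⟩ := SpRelDim.fibreDimAt_eq_add_resTrdeg f x
  rw [hn, Nat.cast_inj] at hδ'
  rw [hb, Nat.cast_inj] at hb'
  rw [hD, Nat.cast_inj] at hD'
  obtain rfl : n = δ := by omega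
  exact ⟨h1, h2⟩

/-- Chains of the source are bounded by chains of the target and the transcendence degrees. -/
theorem dim_le_of_resTrdeg {E : ℕ}
    (hE : ∀ ξ : X, IsMaxPt ξ → ∃ e ≤ E, ChainsLE f (closure {ξ}) (f ξ) e) :
    topologicalKrullDim ↥X ≤ topologicalKrullDim ↥Y + (E : WithBot ℕ∞) := by
  haveI : IsLocallyNoetherian X := LocallyOfFiniteType.isLocallyNoetherian f
  refine le_of_forall_natCast_le fun l hl => ?_
  obtain ⟨c, hc⟩ := exists_chain_of_le_topologicalKrullDim hl
  obtain ⟨ξ, hξ, hξc⟩ := exists_isMaxPt_specializes (c 0)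
  have hξx : ξ ⤳ c (Fin.last l) := hξc.trans (specializes_of_chain c hc _)
  obtain ⟨e, heE, he⟩ := hE ξ hξ
  obtain ⟨m, hm1, g, hg, -, -⟩ := exists_genLE_hasGen (hξx.map f.continuous)
  have h := dimension_inequality f hξx (a := l) ⟨c, hc, hξc, rfl⟩ hm1 (d := 0)
    ⟨fun _ => c (Fin.last l), fun _ => ⟨subset_closure rfl, rfl⟩, fun i => i.elim0⟩ he
  refine le_trans ?_ (add_le_add (natCast_le_topologicalKrullDim g hg) le_rfl)
  exact_mod_cast (by omega : l ≤ m + E)

/-- Along a specializing map, chains of the target lift together with a fibre of given dimension. -/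
theorem exists_chain_lift (hf : SpecializingMap f) {n : ℕ} :
    ∀ (d : ℕ) (ζ : X) (g : Fin (d + 1) → Y), IsChain' g → f ζ = g 0 → HasChain f (closure {ζ}) (f ζ) n →
      ∃ m, m = d + n ∧ ∃ c : Fin (m + 1) → X, IsChain' c ∧ ζ ⤳ c 0 := by
  intro d
  induction d with
  | zero =>
    rintro ζ g - - ⟨c, hc, hcc⟩
    exact ⟨n, n.zero_add.symm, c, hcc, specializes_iff_mem_closure.2 (hc 0).1⟩
  | succ d ih =>
    intro ζ g hg hζ hn
    obtain ⟨w, hζw, hw⟩ := hf (a := ζ) (show f ζ ⤳ g 1 from hζ ▸ (hg 0).1)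
    obtain ⟨z, hζz, -, hfz, hz⟩ := Catenary.exists_fibre_point f hζw hn
    obtain ⟨m, hm, c, hc, hzc⟩ := ih z (Fin.tail g) (fun i => hg i.succ) (hfz.trans hw) (hfz.symm ▸ hz)
    refine ⟨m + 1, by omega, Fin.cons ζ c, fun i => ?_, specializes_rfl⟩
    cases i using Fin.cases with
    | zero =>
      refine ⟨by simpa using hζz.trans hzc, fun he => ?_⟩
      simp only [Fin.castSucc_zero, Fin.cons_zero, Fin.cons_succ] at he
      have h1 : g 1 ⤳ g 0 := by
        rw [← hζ, ← hw, ← hfz, he]
        exact hzc.map f.continuous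
      exact (hg 0).2 (((hg 0).1).antisymm h1).eq
    | succ i => simpa [← Fin.succ_castSucc] using hc i

end Groth.Agent.FlatDim
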