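import Groth.Agent.FlatDim.DimSets
import Groth.Agent.DimFormula.Dims
import Groth.Agent.Catenary.Formula

/-!
# Dimension of an irreducible scheme over a universally catenary base
-/

universe u

set_option autoImplicit false
set_option linter.style.haveILetI false
set_option backward.isDefEq.respectTransparency false

open CategoryTheory AlgebraicGeometry Topology TopologicalSpace

namespace Groth.Agent.FlatDim

open Unibranch DimFormula

variable {X Y : Scheme.{u}}

/-- Every point specialises inside its fibre to one closed in the fibre. -/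
theorem exists_fibre_closed (f : X ⟶ Y) [LocallyOfFiniteType f] (x : X) :
    ∃ x', x ⤳ x' ∧ f x' = f x ∧ ChainsLE f (closure {x'}) (f x') 0 := by
  obtain ⟨δ, h1, ⟨c, hc, hcc⟩, -⟩ := exists_dim_closure_eq f x
  refine ⟨c (Fin.last δ), specializes_iff_mem_closure.2 (hc _).1, (hc _).2, fun k d hd hdd => ?_⟩
  by_contra hk
  obtain ⟨i, hi⟩ : ∃ i, d i ≠ c (Fin.last δ) := by
    by_contra h
    push Not at h
    exact (hdd ⟨0, by omega⟩).2 ((h _).trans (h _).symm)
  have h := h1 (δ + 1) (Fin.snoc c (d i)) (fun j => ?_) (fun j => ?_)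
  · omega
  · refine Fin.lastCases ?_ (fun j => ?_) j
    · simp only [Fin.snoc_last]
      exact ⟨closure_minimal (Set.singleton_subset_iff.2 (hc _).1) isClosed_closure (hd i).1, (hd i).2.trans (hc _).2⟩
    · simp only [Fin.snoc_castSucc]
      exact hc j
  · refine Fin.lastCases ?_ (fun j => ?_) j
    · simp only [Fin.succ_last, Fin.snoc_last, Fin.snoc_castSucc]
      exact ⟨specializes_iff_mem_closure.2 (hd i).1, hi.symm⟩
    · simp only [← Fin.castSucc_succ, Fin.snoc_castSucc]
      exact hcc j

/-- Chains of the target lift, with the generic fibre dimension added. -/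
theorem natCast_le_dim_of_uc [IsLocallyNoetherian Y] (f : X ⟶ Y) [LocallyOfFiniteType f] [IrreducibleSpace X] (x : X)
    (hcat : CAlg.IsUniversallyCatenary (Y.presheaf.stalk (f x))) {e C : ℕ}
    (he : HasChain f (closure {genericPoint ↥X}) (f (genericPoint ↥X)) e)
    (hC : HasGen (f (genericPoint ↥X)) (f x) C) : ((C + e : ℕ) : WithBot ℕ∞) ≤ topologicalKrullDim ↥X := by
  haveI : IsLocallyNoetherian X := LocallyOfFiniteType.isLocallyNoetherian f
  obtain ⟨x', hxx', hfx', hcl⟩ := exists_fibre_closed f x
  obtain ⟨a, ha, g, hg, -, -⟩ := exists_genLE_hasGen ((genericPoint_specializes x).trans hxx')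
  rw [← hfx'] at hcat hC
  have h := Catenary.dimension_formula f ((genericPoint_specializes x).trans hxx') hcat ha hC hcl he
  exact le_trans (Nat.cast_le.2 (by omega)) (natCast_le_topologicalKrullDim g hg)

/-- The dimension of an irreducible scheme is bounded by image and generic fibre. -/
theorem exists_le_of_chain [IsLocallyNoetherian Y] (f : X ⟶ Y) [LocallyOfFiniteType f] [IrreducibleSpace X] {e l : ℕ}
    (he : ChainsLE f (closure {genericPoint ↥X}) (f (genericPoint ↥X)) e)
    (hl : (l : WithBot ℕ∞) ≤ topologicalKrullDim ↥X) :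
    ∃ x : X, ∃ m, HasGen (f (genericPoint ↥X)) (f x) m ∧ l ≤ m + e := by
  obtain ⟨c, hc⟩ := exists_chain_of_le_topologicalKrullDim hl
  have hx := genericPoint_specializes (c (Fin.last l))
  obtain ⟨m, hm1, hm2⟩ := exists_genLE_hasGen (hx.map f.continuous)
  have h0 := dimension_inequality f hx (a := l) ⟨c, hc, genericPoint_specializes _, rfl⟩ hm1 (d := 0)
    ⟨fun _ => c (Fin.last l), fun _ => ⟨subset_closure rfl, rfl⟩, fun i => i.elim0⟩ he
  exact ⟨_, m, hm2, by omega⟩

end Groth.Agent.FlatDim
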