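import Groth.Agent.FlatDim.Comps
import Groth.Agent.Unibranch.UpperSemicont
import Groth.Agent.SubDescent.FlatEmb

/-!
# Dimensions of subsets and fibres over a field, by points
-/

universe u

set_option autoImplicit false
set_option linter.style.haveILetI false
set_option backward.isDefEq.respectTransparency false

open CategoryTheory AlgebraicGeometry Topology TopologicalSpace

namespace Groth.Agent.FlatDim

open Unibranch

variable {k : Type u} [Field k] {X Y : Scheme.{u}}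

theorem specializes_of_isChain {n : ℕ} {c : Fin (n + 1) → X} (hc : IsChain' c) (i : Fin (n + 1)) : c 0 ⤳ c i := by
  induction i using Fin.induction with
  | zero => exact specializes_rfl
  | succ i ih => exact ih.trans (hc i).1

theorem chain_mem_closure {n : ℕ} {c : Fin (n + 1) → X} (hc : IsChain' c) (i : Fin (n + 1)) :
    c i ∈ closure ({c 0} : Set X) :=
  specializes_iff_mem_closure.1 (specializes_of_isChain hc i)

/-- The dimension of a locally closed subset is attained at one of its points. -/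
theorem natCast_le_dim_iff (q : X ⟶ Spec (CommRingCat.of k)) [LocallyOfFiniteType q] {T : Set X}
    (hT : IsLocallyClosed T) {n : ℕ} :
    (n : WithBot ℕ∞) ≤ topologicalKrullDim ↥T ↔ ∃ x ∈ T, n ≤ WeilCoh.pdim X x := by
  have hset : ∀ s, (T ∩ q ⁻¹' {s} : Set X) = T := fun s =>
    Set.inter_eq_left.2 fun y _ => Subsingleton.elim (q y) s
  have hiff := natCast_le_topologicalKrullDim_inter_iff q hT default (k := n)
  rw [hset] at hiff
  refine hiff.trans ⟨fun ⟨c, hc, hcc⟩ => ⟨c 0, (hc 0).1, ?_⟩, fun ⟨x, hx, hn⟩ => ?_⟩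
  · exact le_of_chainsLE ⟨c, fun i => ⟨chain_mem_closure hcc i, Subsingleton.elim _ _⟩, hcc⟩ (pdim_spec q (c 0)).1
  · obtain ⟨O, F, hO, hF, rfl⟩ := hT
    obtain ⟨V, W, hV, hW, hxW, hWV, hWO⟩ := exists_chart_le q (U := ⟨O, hO⟩) hx.1
    have h1 := ((hasChain_rdimIn hV hW hWV hxW).anti
      (hn.trans ((pdim_spec q x).2.1.le (chainsLE_of_specializes q specializes_rfl hxW (chainsLE_rdimIn hV hW hWV hxW)))))
    obtain ⟨c, hc, hcc⟩ := h1
    exact ⟨c, fun i => ⟨⟨hWO (hc i).1.1, hF.closure_subset_iff.2 (Set.singleton_subset_iff.2 hx.2) (hc i).1.2⟩,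
      Subsingleton.elim _ _⟩, hcc⟩

theorem dim_le_iff (q : X ⟶ Spec (CommRingCat.of k)) [LocallyOfFiniteType q] {T : Set X}
    (hT : IsLocallyClosed T) {n : ℕ} :
    topologicalKrullDim ↥T ≤ (n : WithBot ℕ∞) ↔ ∀ x ∈ T, WeilCoh.pdim X x ≤ n := by
  rw [natCast_le_iff_of_le_iff]
  exact ⟨fun h x hx => h _ ((natCast_le_dim_iff q hT).2 ⟨x, hx, le_rfl⟩),
    fun h j hj => by obtain ⟨x, hx, hjx⟩ := (natCast_le_dim_iff q hT).1 hj; exact hjx.trans (h x hx)⟩

theorem dim_univ_eq : topologicalKrullDim ↥X = topologicalKrullDim ↥(Set.univ : Set X) :=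
  (IsHomeomorph.topologicalKrullDim_eq _ (Homeomorph.Set.univ ↥X).isHomeomorph).symm

theorem natCast_le_dim_univ_iff (q : X ⟶ Spec (CommRingCat.of k)) [LocallyOfFiniteType q] {n : ℕ} :
    (n : WithBot ℕ∞) ≤ topologicalKrullDim ↥X ↔ ∃ x : X, n ≤ WeilCoh.pdim X x := by
  rw [dim_univ_eq, natCast_le_dim_iff q isClosed_univ.isLocallyClosed]
  simp

theorem dim_univ_le_iff (q : X ⟶ Spec (CommRingCat.of k)) [LocallyOfFiniteType q] {n : ℕ} :
    topologicalKrullDim ↥X ≤ (n : WithBot ℕ∞) ↔ ∀ x : X, WeilCoh.pdim X x ≤ n := by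
  rw [dim_univ_eq, dim_le_iff q isClosed_univ.isLocallyClosed]
  simp

/-- The dimension of a fibre, by chains. -/
theorem natCast_le_fibre_iff (f : X ⟶ Y) (y : Y) {n : ℕ} :
    (n : WithBot ℕ∞) ≤ topologicalKrullDim ↥(f.fiber y) ↔
      ∃ x, f x = y ∧ HasChain f (closure {x}) y n := by
  rw [natCast_le_topologicalKrullDim_iff f (S := Set.univ) (f.fiberι y).isEmbedding
    (by rw [Scheme.Hom.range_fiberι, Set.univ_inter])]
  exact ⟨fun ⟨c, hc, hcc⟩ => ⟨c 0, (hc 0).2, c, fun i => ⟨chain_mem_closure hcc i, (hc i).2⟩, hcc⟩,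
    fun ⟨x, _, h⟩ => h.mono (Set.subset_univ _)⟩

theorem fibre_set_dim (f : X ⟶ Y) (y : Y) :
    topologicalKrullDim ↥(f ⁻¹' {y}) = topologicalKrullDim ↥(f.fiber y) :=
  (IsHomeomorph.topologicalKrullDim_eq _ (f.fiberHomeo y).isHomeomorph).symm

/-- Local fibre dimension bounds the closure of a generisation in the fibre. -/
theorem le_fibreDimAt (f : X ⟶ Y) [LocallyOfFiniteType f] {z x : X} (hzx : z ⤳ x) (hf : f z = f x) {δ : ℕ}
    (h : HasChain f (closure {z}) (f z) δ) : (δ : WithBot ℕ∞) ≤ FlatMor.fibreDimAt f x := by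
  refine (natCast_le_fibreDimAt_iff f x).2 fun U hU => ?_
  obtain ⟨V, W, hV, hW, hzW, hWV, hWU⟩ := exists_chart_le f (hzx.mem_open U.2 hU)
  rw [← hf]
  exact ((hasChain_rdimIn hV hW hWV hzW).mono fun w hw => hWU hw.1).anti
    (h.le (chainsLE_of_specializes f specializes_rfl hzW (chainsLE_rdimIn hV hW hWV hzW)))

/-- The local fibre dimension is upper semicontinuous. -/
theorem isOpen_fibreDimAt_le (f : X ⟶ Y) [LocallyOfFiniteType f] (e : ℕ) :
    IsOpen {x : X | FlatMor.fibreDimAt f x ≤ (e : WithBot ℕ∞)} := by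
  refine isOpen_iff_forall_mem_open.2 fun x hx => ?_
  obtain ⟨U, hxU, hU⟩ := (fibreDimAt_le_iff f x).1 hx
  obtain ⟨U', hxU', -, hU'⟩ := exists_opens_chainsLE f hxU hU
  exact ⟨U', fun y hy => (fibreDimAt_le_iff f y).2 ⟨U', hy, hU' _⟩, U'.2, hxU'⟩

theorem exists_isFibMax_specializes (f : X ⟶ Y) (x : X) : ∃ z, z ⤳ x ∧ f z = f x ∧ IsFibMax f z := by
  obtain ⟨v, hv, hvx⟩ := exists_isMaxPt_specializes (f.asFiber x)
  refine ⟨f.fiberι (f x) v, ?_, (f.range_fiberι (f x)).le ⟨v, rfl⟩, (isFibMax_iff f _ v).1 hv⟩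
  exact (hvx.map (f.fiberι (f x)).continuous).trans (specializes_of_eq (f.fiberι_asFiber x))

/-- Points of the closure of the locus of big fibres generise to the locus. -/
theorem exists_specializes_fibreDimGE (f : X ⟶ Y) [LocallyOfFiniteType f] [QuasiCompact f] (j : ℕ) {y : Y}
    (hy : y ∈ closure {y : Y | (j : WithBot ℕ∞) ≤ topologicalKrullDim ↥(f.fiber y)}) :
    ∃ x : X, f x ⤳ y ∧ (j : WithBot ℕ∞) ≤ topologicalKrullDim ↥(f.fiber (f x)) := by
  let C : Set X := {x | (j : WithBot ℕ∞) ≤ FlatMor.fibreDimAt f x}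
  have hC : IsClosed C := by
    rcases j with _ | j
    · have : C = Set.univ := Set.eq_univ_iff_forall.2 fun x => by
        obtain ⟨d, hd⟩ := exists_fibreDimAt_eq f x
        show ((0 : ℕ) : WithBot ℕ∞) ≤ _
        rw [hd]; exact_mod_cast Nat.zero_le d
      rw [this]; exact isClosed_univ
    · have : C = {x | FlatMor.fibreDimAt f x ≤ (j : WithBot ℕ∞)}ᶜ := by
        ext x
        obtain ⟨d, hd⟩ := exists_fibreDimAt_eq f x
        show ((j + 1 : ℕ) : WithBot ℕ∞) ≤ _ ↔ ¬ FlatMor.fibreDimAt f x ≤ _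
        rw [hd, Nat.cast_le, Nat.cast_le]
        omega
      rw [this]; exact (isOpen_fibreDimAt_le f j).isClosed_compl
  have hCf : ∀ x ∈ C, (j : WithBot ℕ∞) ≤ topologicalKrullDim ↥(f.fiber (f x)) := fun x hx => by
    rw [natCast_le_topologicalKrullDim_iff f (S := Set.univ) (f.fiberι (f x)).isEmbedding
      (by rw [Scheme.Hom.range_fiberι, Set.univ_inter])]
    exact ((natCast_le_fibreDimAt_iff f x).1 hx ⊤ trivial).mono (Set.subset_univ _)
  have hsub : {y : Y | (j : WithBot ℕ∞) ≤ topologicalKrullDim ↥(f.fiber y)} ⊆ f '' C := fun y' hy' => by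
    obtain ⟨x, hx, hch⟩ := (natCast_le_fibre_iff f y').1 hy'
    exact ⟨x, le_fibreDimAt f specializes_rfl rfl (hx ▸ hch), hx⟩
  obtain ⟨x, hxC, hxy⟩ := SubDescent.exists_specializes_of_mem_closure_image f hC (closure_mono hsub hy)
  exact ⟨x, hxy, hCf x hxC⟩

end Groth.Agent.FlatDim
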