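import Groth.Agent.FlatDim.DimSets
import Groth.Agent.DimFormula.Scheme
import Groth.Agent.KoszulLib.SchImm

/-!
# Pulling back an immersion cut out by few equations
-/

universe u

set_option autoImplicit false
set_option linter.style.haveILetI false
set_option backward.isDefEq.respectTransparency false

open CategoryTheory AlgebraicGeometry Topology TopologicalSpace

namespace Groth.Agent.FlatDim

open Unibranch DimFormula

variable {X W C : Scheme.{u}}

/-- On an affine open, the preimage of an immersion is cut out by the images of its equations. -/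
theorem mem_range_iff_le (ι : W ⟶ X) (π : C ⟶ X) (U : X.affineOpens) (hc : IsClosedImmersion (ι ∣_ U.1))
    {V : C.Opens} (hV : IsAffineOpen V) (e : V ≤ π ⁻¹ᵁ U.1) (x : C) (hx : x ∈ V) :
    π x ∈ Set.range ι ↔ (RingHom.ker (ι.app U.1).hom).map (π.appLE U.1 V e).hom ≤ (hV.primeIdealOf ⟨x, hx⟩).asIdeal := by
  rw [Ideal.map_le_iff_le_comap, KoszulLib.comap_primeIdealOf π U ⟨V, hV⟩ e x hx]
  constructor
  · rintro ⟨w, hw⟩
    have hwU : ι w ∈ U.1 := hw ▸ e hx
    have hU' : (⟨ι w, hwU⟩ : U.1) = ⟨π x, e hx⟩ := Subtype.ext hw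
    rw [← hU', ← KoszulLib.comap_primeIdealOf ι U ⟨_, KoszulLib.isAffineOpen_preimage ι hc⟩ le_rfl w hwU,
      ← Scheme.Hom.app_eq_appLE]
    intro a ha
    rw [Ideal.mem_comap, RingHom.mem_ker.1 ha]
    exact zero_mem _
  · intro h
    obtain ⟨w, hw, hp⟩ := KoszulLib.exists_point_of_ker_le ι U hc _ h
    exact ⟨w, ((U.2.fromSpec_primeIdealOf ⟨ι w, hw⟩).symm.trans ((congrArg U.2.fromSpec hp).trans
      (U.2.fromSpec_primeIdealOf ⟨π x, e hx⟩)))⟩

/-- A maximal point of the preimage inside a closure has small height there. -/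
theorem genLE_of_cut [IsLocallyNoetherian C] (ι : W ⟶ X) (π : C ⟶ X) (U : X.affineOpens)
    (hc : IsClosedImmersion (ι ∣_ U.1)) (rs : List Γ(X, U.1)) (hrs : RingHom.ker (ι.app U.1).hom = Ideal.ofList rs)
    {ζ g : C} (hζg : ζ ⤳ g) (hgU : π g ∈ U.1) (hgR : π g ∈ Set.range ι)
    (hmax : ∀ y, ζ ⤳ y → y ⤳ g → π y ∈ Set.range ι → y = g) : GenLE ζ g rs.length := by
  classical
  obtain ⟨V, hV, hgV, e⟩ := exists_isAffineOpen_mem_and_subset (X := C) (x := g) (U := π ⁻¹ᵁ U.1) hgU
  haveI : IsNoetherianRing Γ(C, V) := IsLocallyNoetherian.component_noetherian ⟨V, hV⟩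
  have hζV : ζ ∈ V := hζg.mem_open V.2 hgV
  let a := hV.primeIdealOf ⟨ζ, hζV⟩
  let b := hV.primeIdealOf ⟨g, hgV⟩
  have hab : a.asIdeal ≤ b.asIdeal := (primeIdealOf_le_iff hV hζV hgV).mpr hζg
  let φ := (π.appLE U.1 V e).hom
  let mk := Ideal.Quotient.mk a.asIdeal
  let s : Finset (Γ(C, V) ⧸ a.asIdeal) := ((rs.map φ).map mk).toFinset
  have hspan : Ideal.span (s : Set (Γ(C, V) ⧸ a.asIdeal)) = ((RingHom.ker (ι.app U.1).hom).map φ).map mk := by
    rw [hrs, Ideal.map_ofList, Ideal.map_ofList]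
    exact congrArg Ideal.span (List.coe_toFinset _)
  haveI hb : (b.asIdeal.map mk).IsPrime :=
    Ideal.map_isPrime_of_surjective Ideal.Quotient.mk_surjective (by rw [Ideal.mk_ker]; exact hab)
  have hmin : b.asIdeal.map mk ∈ (Ideal.span (s : Set (Γ(C, V) ⧸ a.asIdeal))).minimalPrimes := by
    rw [hspan]
    refine ⟨⟨hb, Ideal.map_mono ((mem_range_iff_le ι π U hc hV e g hgV).1 hgR)⟩, fun Q hQ hle => ?_⟩
    haveI := hQ.1
    let P : PrimeSpectrum Γ(C, V) := ⟨Q.comap mk, inferInstance⟩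
    have hyV : hV.fromSpec P ∈ V := hV.range_fromSpec.le ⟨P, rfl⟩
    have hye : hV.primeIdealOf ⟨hV.fromSpec P, hyV⟩ = P :=
      hV.fromSpec.isOpenEmbedding.injective (hV.fromSpec_primeIdealOf _)
    have hPb : P.asIdeal ≤ b.asIdeal := (Ideal.comap_mono hle).trans (by
      rw [Ideal.comap_map_of_surjective _ Ideal.Quotient.mk_surjective, ← RingHom.ker_eq_comap_bot, Ideal.mk_ker,
        sup_eq_left.2 hab])
    have h1 := hmax (hV.fromSpec P) ((primeIdealOf_le_iff hV hζV hyV).mp (by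
        rw [hye]
        exact fun x hx => by
          show mk x ∈ Q
          rw [Ideal.Quotient.eq_zero_iff_mem.2 hx]
          exact zero_mem _))
      ((primeIdealOf_le_iff hV hyV hgV).mp (by rw [hye]; exact hPb))
      ((mem_range_iff_le ι π U hc hV e _ hyV).2 (by rw [hye]; exact Ideal.map_le_iff_le_comap.1 hQ.2))
    have hPeq : P = b := hye.symm.trans (congrArg hV.primeIdealOf (Subtype.ext h1))
    rw [← Ideal.map_comap_of_surjective mk Ideal.Quotient.mk_surjective Q]
    exact Ideal.map_mono (congrArg PrimeSpectrum.asIdeal hPeq).ge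
  have hht : (b.asIdeal.map mk).height ≤ (rs.length : ℕ∞) :=
    (Ideal.height_le_card_of_mem_minimalPrimes_span_finset hmin).trans
      (by exact_mod_cast (List.toFinset_card_le _).trans (by simp))
  intro n c hc h0 hlast
  have hmem : ∀ i, c i ∈ V := fun i => (hlast ▸ specializes_last hc i).mem_open V.2 hgV
  have h := natCast_le_height_quotient a b ⟨n, fun i => hV.primeIdealOf ⟨c i, hmem i⟩, fun i => by
      refine lt_of_le_of_ne ((primeIdealOf_le_iff hV _ _).mpr (hc i).1) fun h => (hc i).2 ?_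
      have h1 := congrArg hV.fromSpec (PrimeSpectrum.ext h)
      exact (hV.fromSpec_primeIdealOf ⟨c _, hmem _⟩).symm.trans (h1.trans (hV.fromSpec_primeIdealOf ⟨c _, hmem _⟩))⟩
    ((primeIdealOf_le_iff hV hζV (hmem 0)).mpr h0)
    ((primeIdealOf_le_iff hV (hmem _) hgV).mpr (specializes_of_eq hlast))
  exact_mod_cast h.trans hht

end Groth.Agent.FlatDim
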