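import Groth.Agent.WeilLib.Trdeg
import Groth.Agent.DimFormula.Scheme
import Groth.Agent.Unibranch.ComponentDim
import Groth.Agent.ValFibre.Basic
import Groth.Agent.GoingDown.Scheme
import Groth.Agent.FlatModB.Basic
import Mathlib.AlgebraicGeometry.Morphisms.Flat

/-!
# Dimensions of fibres of flat morphisms of schemes locally of finite type over a field, on points
-/

universe u

set_option autoImplicit false
set_option linter.style.haveILetI false
set_option backward.isDefEq.respectTransparency false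

open CategoryTheory AlgebraicGeometry Topology TopologicalSpace

namespace Groth.Agent.FlatDim

open Unibranch

/-- Relative dimensions of primes add in towers. -/
theorem rdim_add {K A B : Type u} [CommRing K] [CommRing A] [CommRing B] [Algebra K A] [Algebra A B]
    [Algebra K B] [IsScalarTower K A B] [Algebra.FiniteType K A] [Algebra.FiniteType A B] (q : Ideal B)
    [q.IsPrime] : rdim K (q.under A) + rdim A q = rdim K q := by
  let p := q.under A
  let P := q.under K
  haveI : Algebra.FiniteType K B := .trans (R := K) (S := A) inferInstance inferInstance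
  have hover : ∀ (C : Type u) [CommRing C] [Algebra K C] [Algebra.FiniteType K C] (r : Ideal C) [r.IsPrime]
      (P' : Ideal K) [r.LiesOver P'], (rdim K r : Cardinal.{u}) = Algebra.trdeg (K ⧸ P') (C ⧸ r) := fun C _ _ _ r _ P' hr => by
    obtain rfl := Ideal.over_def r P'
    exact natCast_rdim r
  haveI : p.LiesOver P := ⟨(Ideal.under_under (A := K) (B := A) q).symm⟩
  haveI : q.LiesOver P := ⟨rfl⟩
  haveI : q.LiesOver p := ⟨rfl⟩
  haveI : IsScalarTower (K ⧸ P) (A ⧸ p) (B ⧸ q) := IsScalarTower.of_algebraMap_eq fun x => by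
    obtain ⟨a, rfl⟩ := Ideal.Quotient.mk_surjective x
    show Ideal.Quotient.mk q (algebraMap K B a) = Ideal.Quotient.mk q (algebraMap A B (algebraMap K A a))
    rw [← IsScalarTower.algebraMap_apply]
  haveI : (q.under A).IsPrime := inferInstance
  haveI : IsDomain (A ⧸ p) := Ideal.Quotient.isDomain p
  haveI : IsDomain (B ⧸ q) := Ideal.Quotient.isDomain q
  haveI : IsDomain (K ⧸ P) := Ideal.Quotient.isDomain P
  have h := trdeg_add_eq (K ⧸ P) (A ⧸ p) (A := B ⧸ q)
  rw [← hover A p P, ← natCast_rdim (A := A) q, ← hover B q P] at h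
  exact_mod_cast h

variable {k : Type u} [Field k] {X Y : Scheme.{u}}

/-- A point of the fibre without proper generisation inside the fibre. -/
def IsFibMax (f : X ⟶ Y) (x : X) : Prop := ∀ y : X, y ⤳ x → f y = f x → y = x

/-- The dimension of the closure of a point, by chains over the point of the base field. -/
theorem pdim_spec (q : X ⟶ Spec (CommRingCat.of k)) [LocallyOfFiniteType q] (x : X) :
    ChainsLE q (closure {x}) (q x) (WeilCoh.pdim X x) ∧ HasChain q (closure {x}) (q x) (WeilCoh.pdim X x) ∧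
      topologicalKrullDim ↥(closure ({x} : Set X)) = (WeilCoh.pdim X x : WithBot ℕ∞) := by
  have hset : (closure {x} ∩ q ⁻¹' {q x} : Set X) = closure {x} :=
    Set.inter_eq_left.2 fun y _ => Subsingleton.elim (q y) (q x)
  obtain ⟨e, h1, h2, h3⟩ := exists_dim_closure_eq q x
  rw [hset] at h3
  have : WeilCoh.pdim X x = e := by
    rw [WeilCoh.pdim, WeilCoh.natDim, h3]
    rfl
  rw [this]
  exact ⟨h1, h2, h3⟩

theorem le_of_chainsLE {f : X ⟶ Y} {S : Set X} {y : Y} {a b : ℕ} (ha : HasChain f S y a) (hb : ChainsLE f S y b) :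
    a ≤ b := ha.le hb

/-- `pdim` is additive along residue field extensions. -/
theorem exists_pdim_eq (f : X ⟶ Y) (qY : Y ⟶ Spec (CommRingCat.of k)) [LocallyOfFiniteType qY]
    [LocallyOfFiniteType f] (x : X) :
    ∃ δ : ℕ, ChainsLE f (closure {x}) (f x) δ ∧ HasChain f (closure {x}) (f x) δ ∧
      WeilCoh.pdim X x = WeilCoh.pdim Y (f x) + δ := by
  obtain ⟨V, W, hV, hW, hxW, hWV, -⟩ := exists_chart_le f (U := ⊤) (x := x) trivial
  let qX := f ≫ qY
  have hT : IsAffineOpen (⊤ : (Spec (CommRingCat.of k)).Opens) := isAffineOpen_top _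
  let A := Γ(Y, V)
  let B := Γ(X, W)
  letI : Algebra Γ(Spec (CommRingCat.of k), ⊤) A := (qY.appLE ⊤ V le_top).hom.toAlgebra
  letI : Algebra A B := (f.appLE V W hWV).hom.toAlgebra
  letI : Algebra Γ(Spec (CommRingCat.of k), ⊤) B := (qX.appLE ⊤ W le_top).hom.toAlgebra
  haveI : IsScalarTower Γ(Spec (CommRingCat.of k), ⊤) A B := IsScalarTower.of_algebraMap_eq' (by
    show (qX.appLE ⊤ W le_top).hom = (f.appLE V W hWV).hom.comp (qY.appLE ⊤ V le_top).hom
    rw [← CommRingCat.hom_comp, Scheme.Hom.appLE_comp_appLE])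
  haveI : Algebra.FiniteType Γ(Spec (CommRingCat.of k), ⊤) A := qY.finiteType_appLE hT hV le_top
  haveI : Algebra.FiniteType A B := f.finiteType_appLE hV hW hWV
  have hkey : ∀ {Z : Scheme.{u}} (q : Z ⟶ Spec (CommRingCat.of k)) [LocallyOfFiniteType q] (O : Z.Opens)
      (hO : IsAffineOpen O) (z : Z) (hz : z ∈ O),
      WeilCoh.pdim Z z = rdimIn q hO (show O ≤ q ⁻¹ᵁ (⊤ : (Spec (CommRingCat.of k)).Opens) from fun _ _ => trivial) z hz := fun q _ O hO z hz => by
    obtain ⟨h1, h2, -⟩ := pdim_spec q z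
    refine le_antisymm (le_of_chainsLE h2
      (chainsLE_of_specializes q specializes_rfl hz (chainsLE_rdimIn hT hO le_top hz))) ?_
    exact le_of_chainsLE ((hasChain_rdimIn hT hO le_top hz).mono Set.inter_subset_right) h1
  refine ⟨rdimIn f hW hWV x hxW, chainsLE_of_specializes f specializes_rfl hxW (chainsLE_rdimIn hV hW hWV hxW),
    (hasChain_rdimIn hV hW hWV hxW).mono Set.inter_subset_right, ?_⟩
  rw [hkey qX W hW x hxW, hkey qY V hV (f x) (hWV hxW)]
  have hp : (hW.primeIdealOf ⟨x, hxW⟩).asIdeal.under A = (hV.primeIdealOf ⟨f x, hWV hxW⟩).asIdeal :=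
    congrArg PrimeSpectrum.asIdeal (IsAffineOpen.comap_primeIdealOf_appLE V hV W hW hWV hxW)
  show rdim Γ(Spec (CommRingCat.of k), ⊤) (hW.primeIdealOf ⟨x, hxW⟩).asIdeal =
    rdim Γ(Spec (CommRingCat.of k), ⊤) (hV.primeIdealOf ⟨f x, hWV hxW⟩).asIdeal +
      rdim A (hW.primeIdealOf ⟨x, hxW⟩).asIdeal
  rw [← hp]
  exact (rdim_add (K := Γ(Spec (CommRingCat.of k), ⊤)) (A := A) _).symm

/-- Generisations of maximal points of fibres have smaller fibres. -/
theorem le_of_isFibMax (f : X ⟶ Y) [LocallyOfFiniteType f] {ξ z : X} (hz : IsFibMax f z) (h : ξ ⤳ z)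
    {e δ : ℕ} (he : HasChain f (closure {ξ}) (f ξ) e) (hδ : ChainsLE f (closure {z}) (f z) δ) : e ≤ δ := by
  obtain ⟨U, hzU, hU⟩ := ValFibre.exists_open_fibre f z hz
  refine he.le (chainsLE_of_specializes f h hzU fun j c hc hcc => hδ j c
    (fun i => ⟨specializes_iff_mem_closure.1 (hU _ (hc i).1.1 (hc i).2), (hc i).2⟩) hcc)

theorem exists_lift_chain (f : X ⟶ Y) [Flat f] {z : X} :
    ∀ (a : ℕ) (c : Fin (a + 1) → Y), IsChain' c → c (Fin.last a) = f z →
      ∃ d : Fin (a + 1) → X, IsChain' d ∧ d (Fin.last a) = z ∧ ∀ i, f (d i) = c i := by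
  intro a
  induction a generalizing z with
  | zero =>
    intro c _ hc
    exact ⟨fun _ => z, fun i => i.elim0, rfl, fun i => by rw [show i = Fin.last 0 from Fin.ext (by simp), hc]⟩
  | succ a ih =>
    intro c hcc hc
    have h1 : c (Fin.last a).castSucc ⤳ f z := hc ▸ (show (Fin.last a).succ = Fin.last (a + 1) from rfl) ▸ (hcc (Fin.last a)).1
    obtain ⟨w, hw, hwc⟩ := Flat.generalizingMap f h1
    obtain ⟨d, hd, hdl, hdc⟩ := ih (z := w) (fun i => c i.castSucc)
      (fun i => by simpa [← Fin.castSucc_succ] using hcc i.castSucc) hwc.symm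
    refine ⟨Fin.snoc d z, fun i => ?_, Fin.snoc_last _ _, fun i => ?_⟩
    · induction i using Fin.lastCases with
      | last =>
        simp only [Fin.succ_last, Fin.snoc_last, Fin.snoc_castSucc, hdl]
        refine ⟨hw, fun heq => (hcc (Fin.last a)).2 ?_⟩
        rw [Fin.succ_last, hc, ← heq, hwc]
      | cast j =>
        simp only [← Fin.castSucc_succ, Fin.snoc_castSucc]
        exact hd j
    · induction i using Fin.lastCases with
      | last => rw [Fin.snoc_last, hc]
      | cast j => rw [Fin.snoc_castSucc, hdc]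

theorem isMaxPt_map (f : X ⟶ Y) [Flat f] {ξ : X} (hξ : IsMaxPt ξ) : IsMaxPt (f ξ) := fun η hη => by
  obtain ⟨w, hw, hwη⟩ := Flat.generalizingMap f hη
  rw [← hwη, hξ w hw]

/-- Equidimensional source and target: every fibre is equidimensional. -/
theorem chains_of_equidim (f : X ⟶ Y) [Flat f] (qY : Y ⟶ Spec (CommRingCat.of k)) [LocallyOfFiniteType qY]
    [LocallyOfFiniteType f] {D d : ℕ} (hX : ∀ ξ : X, IsMaxPt ξ → WeilCoh.pdim X ξ = D)
    (hY : ∀ η : Y, IsMaxPt η → WeilCoh.pdim Y η = d) {z : X} (hz : IsFibMax f z) :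
    d ≤ D ∧ ChainsLE f (closure {z}) (f z) (D - d) ∧ HasChain f (closure {z}) (f z) (D - d) := by
  let qX := f ≫ qY
  haveI : IsLocallyNoetherian Y := LocallyOfFiniteType.isLocallyNoetherian qY
  haveI : IsLocallyNoetherian X := LocallyOfFiniteType.isLocallyNoetherian qX
  obtain ⟨δ, hδ, hδ', hzp⟩ := exists_pdim_eq f qY z
  -- below
  obtain ⟨ξ, hξ, hξz⟩ := exists_isMaxPt_specializes z
  obtain ⟨e, -, he', hξp⟩ := exists_pdim_eq f qY ξ
  rw [hX ξ hξ, hY _ (isMaxPt_map f hξ)] at hξp
  have h1 := le_of_isFibMax f hz hξz he' hδ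
  -- above
  obtain ⟨η, hη, hηy⟩ := exists_isMaxPt_specializes (f z)
  obtain ⟨a, hale, c, hc, hc0, hca⟩ := DimFormula.exists_genLE_hasGen hηy
  have hy : WeilCoh.pdim Y η - a ≤ WeilCoh.pdim Y (f z) :=
    le_of_chainsLE (DimFormula.hasChain_sub_of_genLE qY (pdim_spec qY η).2.1 a hηy hale) (pdim_spec qY (f z)).1
  rw [hY η hη] at hy
  obtain ⟨c', hc', hcl', -⟩ := exists_lift_chain f (z := z) a c hc hca
  obtain ⟨ξ', hξ', hξ'w⟩ := exists_isMaxPt_specializes (c' 0)
  have h2 : a + WeilCoh.pdim X z ≤ WeilCoh.pdim X ξ' := by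
    obtain ⟨e₁, he₁, he₁'⟩ := (pdim_spec qX z).2.1
    have hp : ∀ i, qX (c' i) = qX z := fun i => Subsingleton.elim _ _
    have := (pdim_spec qX ξ').1
    have hchain : HasChain qX (closure {ξ'}) (qX ξ') (a + WeilCoh.pdim X z) := by
      refine ⟨fun i => if h : (i : ℕ) ≤ a then c' ⟨i, by omega⟩ else e₁ ⟨i - a, by omega⟩, fun i => ⟨?_, Subsingleton.elim _ _⟩, fun i => ?_⟩
      · have hsp : ∀ j, c' 0 ⤳ c' j := fun j => by
          induction j using Fin.induction with
          | zero => exact specializes_rfl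
          | succ j ih => exact ih.trans (hc' j).1
        refine specializes_iff_mem_closure.1 ?_
        dsimp only
        split
        · exact hξ'w.trans (hsp _)
        · refine (hξ'w.trans (hsp (Fin.last a))).trans ?_
          rw [hcl']
          exact specializes_iff_mem_closure.2 (he₁ _).1
      · have he0 : z ⤳ e₁ 0 := specializes_iff_mem_closure.2 (he₁ 0).1
        simp only [Fin.val_castSucc, Fin.val_succ]
        rcases lt_trichotomy (i : ℕ) a with hlt | heq | hgt
        · rw [dif_pos hlt.le, dif_pos (show (i : ℕ) + 1 ≤ a by omega)]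
          exact hc' ⟨i, hlt⟩
        · rw [dif_pos heq.le, dif_neg (by omega)]
          have h0 := he₁' ⟨0, by omega⟩
          have e1 : (⟨(i : ℕ), by omega⟩ : Fin (a + 1)) = Fin.last a := Fin.ext heq
          have e2 : (⟨(i : ℕ) + 1 - a, by omega⟩ : Fin (WeilCoh.pdim X z + 1)) = (⟨0, by omega⟩ : Fin _).succ :=
            Fin.ext (by simp; omega)
          rw [e1, hcl', e2]
          refine ⟨he0.trans h0.1, fun h => h0.2 ?_⟩
          have : e₁ (⟨0, by omega⟩ : Fin _).succ ⤳ e₁ 0 := h ▸ he0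
          exact (h0.1.antisymm this).eq
        · rw [dif_neg (by omega), dif_neg (by omega)]
          have h0 := he₁' ⟨(i : ℕ) - a, by omega⟩
          have e2 : (⟨(i : ℕ) + 1 - a, by omega⟩ : Fin (WeilCoh.pdim X z + 1)) = (⟨(i : ℕ) - a, by omega⟩ : Fin _).succ :=
            Fin.ext (by simp; omega)
          rw [e2]
          exact h0
    exact le_of_chainsLE hchain this
  rw [hX ξ' hξ', hzp] at h2
  have h3 : δ = D - d := by omega
  exact ⟨by omega, h3 ▸ hδ, h3 ▸ hδ'⟩

/-- Equidimensional fibres and target: the source is equidimensional. -/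
theorem pdim_eq_of_fibres (f : X ⟶ Y) [Flat f] (qY : Y ⟶ Spec (CommRingCat.of k)) [LocallyOfFiniteType qY]
    [LocallyOfFiniteType f] {d n : ℕ} (hY : ∀ η : Y, IsMaxPt η → WeilCoh.pdim Y η = d)
    (hF : ∀ z : X, IsFibMax f z → ChainsLE f (closure {z}) (f z) n ∧ HasChain f (closure {z}) (f z) n)
    {ξ : X} (hξ : IsMaxPt ξ) : WeilCoh.pdim X ξ = d + n := by
  obtain ⟨δ, hδ, hδ', hp⟩ := exists_pdim_eq f qY ξ
  obtain ⟨h1, h2⟩ := hF ξ fun y hy _ => hξ y hy
  rw [hp, hY _ (isMaxPt_map f hξ), le_antisymm (hδ'.le h1) (h2.le hδ)]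

end Groth.Agent.FlatDim
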